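import Mathlib
import Cfsg.Prelude.Def_GeometricClasses
import Cfsg.Agent.Lib.Helper13.OTS.Defs

set_option autoImplicit false

/-!
# Project C3Q (designer helper10): S5977 + S5978.  Definitions.

`PΩ^±_{2d}(q)`, `q` odd, `H = N_Ω(K)`, `K` a self-adjoint field subalgebra of degree 2 of the matrix algebra (type `O_d(q²)`).
Every row is written for a quadratic form `Q : QuadraticForm F (ι → F)` on a function space (`ι` a finite type), `G = Cfsg.isometryGroup F ⇑Q`,
`Ω = Cfsg.Geo.omegaGL ⇑Q`; the polar form is `QuadraticMap.polar ⇑Q`.  The field `K` is replaced by a generator: a matrix `A` with `A * A = δ • 1`, `δ` a non-square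
of `F`, self-adjoint for the polar form (`Gen Q δ A`); `K = {α • 1 + β • A}`, and `g` normalises `K` iff `g A g⁻¹ = ± A` (`NrmA A g`).
-/

namespace Cfsg.Agent.Lib.Helper10.C3Q

open Matrix

variable {F : Type*} [Field F] {ι : Type} [Fintype ι] [DecidableEq ι]

/-- `A` is self-adjoint for the polar form of `Q` -/
def SelfAdj (Q : (ι → F) → F) (A : Matrix ι ι F) : Prop :=
  ∀ u v : ι → F, QuadraticMap.polar Q (A *ᵥ u) v = QuadraticMap.polar Q u (A *ᵥ v)

/-- `A` generates a self-adjoint quadratic field extension of the scalars: `A² = δ`, `δ` a non-square -/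
structure Gen (Q : (ι → F) → F) (δ : F) (A : Matrix ι ι F) : Prop where
  sq : A * A = δ • (1 : Matrix ι ι F)
  ns : ¬ IsSquare δ
  sa : SelfAdj Q A

/-- `g` normalises the field `F[A]` : `g A = A g` or `g A = - A g` -/
def NrmA (A : Matrix ι ι F) (g : GL ι F) : Prop :=
  (g : Matrix ι ι F) * A = A * (g : Matrix ι ι F) ∨ (g : Matrix ι ι F) * A = - (A * (g : Matrix ι ι F))

/-- the left-hand side of the frozen statements with `N(K)` replaced by `NrmA A` -/
def AllConjA (Q : (ι → F) → F) (A : Matrix ι ι F) (r : ℕ) : Prop :=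
  ∀ x ∈ Cfsg.Geo.omegaGL Q,
    (∃ z : F, ((x ^ r : GL ι F) : Matrix ι ι F) = z • (1 : Matrix ι ι F)) →
    (∀ z : F, (x : Matrix ι ι F) ≠ z • (1 : Matrix ι ι F)) →
    ∃ g ∈ Cfsg.Geo.omegaGL Q, NrmA A (g⁻¹ * x * g)

/-- the left-hand side of the frozen statements -/
def AllConjK (Q : (ι → F) → F) (K : Subalgebra F (Matrix ι ι F)) (r : ℕ) : Prop :=
  ∀ x ∈ Cfsg.Geo.omegaGL Q,
    (∃ z : F, ((x ^ r : GL ι F) : Matrix ι ι F) = z • (1 : Matrix ι ι F)) →
    (∀ z : F, (x : Matrix ι ι F) ≠ z • (1 : Matrix ι ι F)) →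
    ∃ g ∈ Cfsg.Geo.omegaGL Q, g⁻¹ * x * g ∈ Cfsg.Geo.subalgebraNormalizer K

/-- the centraliser of `A` in the isometry group: the `K`-linear isometries (`≅ O_d(q²)`) -/
def CentA (Q : (ι → F) → F) (A : Matrix ι ι F) : Subgroup (GL ι F) where
  carrier := {g | g ∈ Cfsg.isometryGroup F Q ∧ (g : Matrix ι ι F) * A = A * (g : Matrix ι ι F)}
  mul_mem' := by
    rintro g h ⟨hg, hgA⟩ ⟨hh, hhA⟩
    refine ⟨mul_mem hg hh, ?_⟩
    rw [Units.val_mul, Matrix.mul_assoc, hhA, ← Matrix.mul_assoc, hgA, Matrix.mul_assoc]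
  one_mem' := ⟨one_mem _, by simp⟩
  inv_mem' := by
    rintro g ⟨hg, hgA⟩
    refine ⟨inv_mem hg, ?_⟩
    have h1 : ((g⁻¹ : GL ι F) : Matrix ι ι F) * (g : Matrix ι ι F) = 1 := by
      rw [← Units.val_mul, inv_mul_cancel, Units.val_one]
    have h2 : (g : Matrix ι ι F) * ((g⁻¹ : GL ι F) : Matrix ι ι F) = 1 := by
      rw [← Units.val_mul, mul_inv_cancel, Units.val_one]
    calc ((g⁻¹ : GL ι F) : Matrix ι ι F) * A
        = ((g⁻¹ : GL ι F) : Matrix ι ι F) * A * ((g : Matrix ι ι F) * ((g⁻¹ : GL ι F) : Matrix ι ι F)) := by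
          rw [h2, Matrix.mul_one]
      _ = ((g⁻¹ : GL ι F) : Matrix ι ι F) * (A * (g : Matrix ι ι F)) * ((g⁻¹ : GL ι F) : Matrix ι ι F) := by
          simp only [Matrix.mul_assoc]
      _ = ((g⁻¹ : GL ι F) : Matrix ι ι F) * ((g : Matrix ι ι F) * A) * ((g⁻¹ : GL ι F) : Matrix ι ι F) := by
          rw [hgA]
      _ = A * ((g⁻¹ : GL ι F) : Matrix ι ι F) := by
          rw [← Matrix.mul_assoc, h1, Matrix.one_mul]

/-- `V` is the orthogonal sum of the planes `⟨e j, f j⟩`: the `2n` vectors form a basis and distinct planes are orthogonal -/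
structure IsPlanes (Q : (ι → F) → F) {n : ℕ} (e f : Fin n → (ι → F)) : Prop where
  li : LinearIndependent F (fun p : Fin n × Fin 2 => if p.2 = 0 then e p.1 else f p.1)
  span : ⊤ ≤ Submodule.span F (Set.range (fun p : Fin n × Fin 2 => if p.2 = 0 then e p.1 else f p.1))
  orth : ∀ i j, i ≠ j → QuadraticMap.polar Q (e i) (e j) = 0 ∧ QuadraticMap.polar Q (e i) (f j) = 0 ∧
    QuadraticMap.polar Q (f i) (f j) = 0

/-- a `K`-orthogonal `K`-basis `e` (`K = F[A]`): the planes `⟨e j, A e j⟩` decompose `V` orthogonally -/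
def IsFrame (Q : (ι → F) → F) (A : Matrix ι ι F) {n : ℕ} (e : Fin n → (ι → F)) : Prop :=
  IsPlanes Q e (fun j => A *ᵥ e j)

/-- the order of `GO^τ_{2d}(q)` (`τ = 1`: plus, `τ = -1`: minus), as in the landed statements S0287 / S0288 -/
def ordGO (q d : ℕ) (τ : ℤ) : ℕ :=
  2 * q ^ (d * (d - 1)) * (if τ = 1 then q ^ d - 1 else q ^ d + 1) * ∏ i ∈ Finset.range (d - 1), (q ^ (2 * (i + 1)) - 1)

/-- the order of `GO_{2m+1}(q)`, as in the landed statement S0286 -/
def ordGOodd (q m : ℕ) : ℕ := 2 * q ^ (m ^ 2) * ∏ i ∈ Finset.range m, (q ^ (2 * (i + 1)) - 1)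

end Cfsg.Agent.Lib.Helper10.C3Q
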