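import Mathlib
import Cfsg.Agent.Lib.Helper10.C3Q.Defs
import Cfsg.Agent.Lib.Helper10.C3QSFINh10
import Cfsg.Agent.Lib.Helper27.C3QKNRM
import Cfsg.Agent.Lib.helper23.C3QNCOMM
import Cfsg.Agent.Lib.helper14.C3QNPVEC
import Cfsg.Agent.Lib.helper7.C3QNPEXh7
import Cfsg.Agent.Lib.Helper5.C3QNPcore
import Cfsg.Agent.Lib.Helper29.C3QNODDcore
import Cfsg.Agent.Lib.Helper5.C3QNKODD
import Cfsg.Agent.Lib.helper6.C3QNINDEX
import Cfsg.Agent.Lib.Helper10.C3QCENTORD
import Cfsg.Agent.Lib.Helper25.C3QNARITH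
import Cfsg.Agent.Lib.helper15.OTSSTDCTX
import Cfsg.Agent.Lib.Helper28.C3QKGENh28
import Cfsg.Agent.Lib.Helper9.C3QNEXh9

set_option autoImplicit false
set_option linter.unusedVariables false
set_option linter.unusedSectionVars false

/-! # Project C3Q, row MAINABS -/

namespace Cfsg.Agent.Lib.Helper10.C3Q

open Matrix Module Cfsg.Agent.Lib.Helper13.OTS Cfsg.Agent.Lib.Helper16

universe u

variable {F : Type u} [Field F] {ι : Type} [Fintype ι] [DecidableEq ι]

/-- `a ∣ b`, `b ∣ n`, `r ∣ n / b` ⟹ `r ∣ n / a` -/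
theorem c3qmain_div_trans {a b n r : ℕ} (hb : 0 < b) (hab : a ∣ b) (hbn : b ∣ n) (hr : r ∣ n / b) :
    r ∣ n / a := by
  obtain ⟨t, rfl⟩ := hab
  obtain ⟨m, rfl⟩ := hbn
  have ha : 0 < a := Nat.pos_of_mul_pos_right hb |> fun h => by
    rcases Nat.eq_zero_or_pos a with h0 | h0
    · rw [h0, zero_mul] at hb; omega
    · exact h0
  rw [Nat.mul_div_cancel_left _ hb] at hr
  rw [mul_assoc, Nat.mul_div_cancel_left _ ha]
  exact Dvd.dvd.mul_left hr t

/-- MAINABS (verbatim row). -/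
theorem main_abs [Fintype F] {p : ℕ} [Fact p.Prime] [CharP F p] {q : ℕ} (hq : Fintype.card F = q)
    (hodd : Odd q) (Qs : QuadraticForm F (ι → F)) (d : ℕ) (τ : ℤ) (hs : QStd Qs d τ) (hd : 4 ≤ d)
    (hG : Nat.card ↥(Cfsg.isometryGroup F (⇑Qs)) = ordGO q d τ)
    (K : Subalgebra F (Matrix ι ι F)) (hK : Cfsg.Geo.IsFieldSubalgebra 2 K)
    (hKf : Cfsg.Geo.IsSelfAdjointFor (QuadraticMap.polar (⇑Qs)) K) (r : ℕ) [Fact r.Prime]
    (hΩ : r ∣ (Cfsg.Geo.subalgebraNormalizer K).relIndex (Cfsg.Geo.omegaGL (⇑Qs))) :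
    AllConjK (⇑Qs) K r ↔ r = 2 := by
  classical
  subst hq
  have h2 : (2 : F) ≠ 0 := by
    intro h2
    haveI : CharP F 2 := CharTwo.of_one_ne_zero_of_two_eq_zero one_ne_zero h2
    have hc : ringChar F = 2 := ringChar.eq F 2
    have := FiniteField.even_card_of_char_two hc
    rw [Nat.odd_iff] at hodd
    omega
  have hp2 : p ≠ 2 := by
    intro hp
    apply h2
    have := CharP.cast_eq_zero F p
    rw [hp] at this
    exact_mod_cast this
  obtain ⟨δ, A, hAK, hns, hA2, hKA⟩ := c3qkgen_h28 h2 K hK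
  have hA : Gen (⇑Qs) δ A := ⟨hA2, hns, hKf A hAK⟩
  have hNK : ∀ g : GL ι F, g ∈ Cfsg.Geo.subalgebraNormalizer K ↔ NrmA A g :=
    k_nrm h2 K δ A hns hA2 hKA
  have hiff : AllConjK (⇑Qs) K r ↔ AllConjA (⇑Qs) A r := by
    unfold AllConjK AllConjA
    constructor
    · intro h x hx h1 h3
      obtain ⟨g, hg, hgN⟩ := h x hx h1 h3
      exact ⟨g, hg, (hNK _).mp hgN⟩
    · intro h x hx h1 h3
      obtain ⟨g, hg, hgN⟩ := h x hx h1 h3
      exact ⟨g, hg, (hNK _).mpr hgN⟩
  rw [hiff]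
  constructor
  · intro hall
    by_contra hr2
    by_cases hrp : r = p
    · subst hrp
      obtain ⟨z, w, hz0, hz, hzw, hw⟩ := n_p_vec Qs d τ hs (by omega)
      exact c3qnp_core hp2 (⇑Qs) A (by rw [hs.card]; omega)
        (c3qnpex_h7 hp2 Qs hs.nd (by rw [hs.card]; omega) z w hz0 hz hzw hw)
        (fun y hy r' hr' z' hz' => n_comm h2 A y hy r' hr' z' hz')
        (fun M hM => n_rank δ hns A hA2 M hM) hall
    · have hidx := n_index h2 Qs hs.nd (by rw [hs.card]; omega) K A hNK r hr2 hΩ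
      obtain ⟨hce, hco⟩ := cent_ord rfl hodd Qs d τ hs (by omega) δ A hA
      have hCG : Nat.card ↥(CentA (⇑Qs) A) ∣ Nat.card ↥(Cfsg.isometryGroup F (⇑Qs)) := by
        apply Subgroup.card_dvd_of_le
        intro g hg
        exact hg.1
      haveI : Finite ↥(CentA (⇑Qs) A) := inferInstance
      have hCpos : 0 < Nat.card ↥(CentA (⇑Qs) A) := Nat.card_pos
      have hrq : ¬ r ∣ Fintype.card F := by
        obtain ⟨n, hp, hn⟩ := FiniteField.card F p
        rw [hn]
        intro hdvd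
        have := (Fact.out : r.Prime).dvd_of_dvd_pow hdvd
        exact hrp ((Nat.prime_dvd_prime_iff_eq Fact.out hp).mp this)
      have hq2 : 2 ≤ Fintype.card F := Fintype.one_lt_card
      obtain ⟨hodd2, hex⟩ := n_arith (Fintype.card F) d τ hs.eps hq2 (by omega) r hr2 hrq
        ⟨fun he => by
            rw [← hG]
            exact c3qmain_div_trans hCpos (hce he) hCG hidx,
          fun ho => by
            rw [← hG]
            exact c3qmain_div_trans hCpos (hco ho) hCG hidx⟩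
        (orderOf ((Fintype.card F : ℕ) : ZMod r))
        (if Even (orderOf ((Fintype.card F : ℕ) : ZMod r)) then orderOf ((Fintype.card F : ℕ) : ZMod r)
          else 2 * orderOf ((Fintype.card F : ℕ) : ZMod r)) rfl rfl
      have hrodd : Odd r := (Fact.out : r.Prime).odd_of_ne_two hr2
      exact c3qnodd_core (⇑Qs) A r _ hodd2
        (c3qnex_h9 Qs d τ hs (by omega) r hrp hr2 _ _ rfl rfl hex)
        (fun y hy z' hz' => n_comm h2 A y hy r hrodd z' hz')
        (fun y hy hyA hyr => n_k_odd hp2 Qs hs.nd δ A hA y hy hyA r hrp hr2 hyr)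
        (fun x hx => q_omega_le Qs x hx) hall
  · intro hr
    subst hr
    exact c3qsfin_h10 h2 Qs hs.nd d hs.card (by omega) δ A hA

end Cfsg.Agent.Lib.Helper10.C3Q
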